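import Cfsg.Agent.Lib.Helper41.OE.FBase

set_option autoImplicit false

namespace Cfsg.Agent.Lib.Helper41.OE

open Cfsg Cfsg.Geo Matrix Cfsg.Agent.Lib.Helper13.Asch Cfsg.Agent.Lib.Helper90.Sp
  Cfsg.Agent.Lib.Helper57.OE Cfsg.Agent.Lib.Helper37.OE
open scoped Kronecker MatrixGroups

variable {ι : Type} [Fintype ι] [DecidableEq ι] {F : Type*} [Field F] {Q : (ι → F) → F}

/-- F2 -/
theorem lagr_pair (hQ : IsNondegenerateQuadraticForm Q) (W U₁ : Submodule F (ι → F))
    (hU₁ : IsLagr Q U₁) (hWU : W ≤ U₁) (hdim : Module.finrank F W + 1 = Module.finrank F U₁) :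
    ∃ U₂, IsLagr Q U₂ ∧ U₁ ⊓ U₂ = W ∧ ∀ U, IsLagr Q U → W ≤ U → U = U₁ ∨ U = U₂ := by
  have hb := hQ.polar_bilinear
  have hn := hU₁.2
  have hperp := finrank_orth hQ W
  have hU₁perp : U₁ ≤ (polB hQ).orthogonal W := ts_le_orth hQ hU₁.1 hWU
  obtain ⟨e, heU, heW⟩ := exists_not_mem_of_finrank_lt (W := W) (U := U₁) (by omega)
  obtain ⟨f₀, hf₀P, hf₀U⟩ := exists_not_mem_of_finrank_lt (W := U₁)
    (U := (polB hQ).orthogonal W) (by omega)
  have hU₁eq : W ⊔ Submodule.span F {e} = U₁ := by
    apply Submodule.eq_of_le_of_finrank_le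
    · exact sup_le hWU ((Submodule.span_singleton_le_iff_mem _ _).2 heU)
    · rw [finrank_sup_span W heW]; omega
  have hQe : Q e = 0 := hU₁.1 e heU
  have hee : QuadraticMap.polar Q e e = 0 := polar_eq_zero_of_ts hU₁.1 heU heU
  have hp : QuadraticMap.polar Q e f₀ ≠ 0 := by
    intro h0
    apply hf₀U
    rw [← lagr_orth hQ hU₁, ← hU₁eq]
    intro x hx
    obtain ⟨w, hw, y, hy, rfl⟩ := Submodule.mem_sup.1 hx
    obtain ⟨c, rfl⟩ := Submodule.mem_span_singleton.1 hy
    change QuadraticMap.polar Q (w + c • e) f₀ = 0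
    rw [hb.add_left, hb.smul_left, h0, mul_zero, add_zero]
    exact hf₀P w hw
  set c₀ : F := Q f₀ / QuadraticMap.polar Q e f₀ with hc₀
  set f : ι → F := f₀ + (-c₀) • e with hf
  have hQf : Q f = 0 := by
    rw [hf, Q_add (Q := Q), hQ.smul, hQe, hb.smul_right, QuadraticMap.polar_comm, hc₀]
    field_simp
    ring
  have hfP : f ∈ (polB hQ).orthogonal W :=
    Submodule.add_mem _ hf₀P (Submodule.smul_mem _ _ (hU₁perp heU))
  have hfU : f ∉ U₁ := by
    intro h
    apply hf₀U
    have := U₁.sub_mem h (U₁.smul_mem (-c₀) heU)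
    rwa [hf, add_sub_cancel_right] at this
  have hfW : f ∉ W := fun h => hfU (hWU h)
  have hpf : QuadraticMap.polar Q e f ≠ 0 := by
    rw [hf, hb.add_right, hb.smul_right, hee, mul_zero, add_zero]
    exact hp
  have hWf : ∀ w ∈ W, QuadraticMap.polar Q w f = 0 := fun w hw => hfP w hw
  have hWe : ∀ w ∈ W, QuadraticMap.polar Q w e = 0 :=
    fun w hw => polar_eq_zero_of_ts hU₁.1 (hWU hw) heU
  have hQW : ∀ w ∈ W, Q w = 0 := fun w hw => hU₁.1 w (hWU hw)
  have hU₂ : IsLagr Q (W ⊔ Submodule.span F {f}) := by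
    constructor
    · intro x hx
      obtain ⟨w, hw, y, hy, rfl⟩ := Submodule.mem_sup.1 hx
      obtain ⟨c, rfl⟩ := Submodule.mem_span_singleton.1 hy
      rw [Q_add (Q := Q), hQW w hw, hQ.smul, hQf, hb.smul_right, hWf w hw]
      ring
    · rw [finrank_sup_span W hfW]; omega
  have hPeq : U₁ ⊔ Submodule.span F {f} = (polB hQ).orthogonal W := by
    apply Submodule.eq_of_le_of_finrank_le
    · exact sup_le hU₁perp ((Submodule.span_singleton_le_iff_mem _ _).2 hfP)
    · rw [finrank_sup_span U₁ hfU]; omega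
  refine ⟨W ⊔ Submodule.span F {f}, hU₂, ?_, ?_⟩
  · apply le_antisymm
    · rintro x ⟨hx1, hx2⟩
      obtain ⟨w, hw, y, hy, rfl⟩ := Submodule.mem_sup.1 hx2
      obtain ⟨c, rfl⟩ := Submodule.mem_span_singleton.1 hy
      by_cases hc : c = 0
      · rw [hc, zero_smul, add_zero]; exact hw
      · exfalso
        apply hfU
        have h1 : c • f ∈ U₁ := by
          have := U₁.sub_mem hx1 (hWU hw)
          rwa [add_sub_cancel_left] at this
        have := U₁.smul_mem c⁻¹ h1
        rwa [smul_smul, inv_mul_cancel₀ hc, one_smul] at this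
    · exact le_inf hWU le_sup_left
  · intro U hU hWle
    have hUP : U ≤ (polB hQ).orthogonal W := ts_le_orth hQ hU.1 hWle
    have hUn := hU.2
    obtain ⟨u, huU, huW⟩ := exists_not_mem_of_finrank_lt (W := W) (U := U) (by omega)
    have hu' : u ∈ U₁ ⊔ Submodule.span F {f} := by rw [hPeq]; exact hUP huU
    obtain ⟨u₁, hu₁, y', hy', hu⟩ := Submodule.mem_sup.1 hu'
    obtain ⟨y, rfl⟩ := Submodule.mem_span_singleton.1 hy'
    rw [← hU₁eq] at hu₁
    obtain ⟨w, hw, x', hx', rfl⟩ := Submodule.mem_sup.1 hu₁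
    obtain ⟨x, rfl⟩ := Submodule.mem_span_singleton.1 hx'
    have hQu : Q u = 0 := hU.1 u huU
    have hxy : x * y * QuadraticMap.polar Q e f = 0 := by
      rw [← hu, Q_add (Q := Q), Q_add (Q := Q), hQW w hw, hQ.smul, hQe, hQ.smul, hQf, hb.add_left, hb.smul_right,
        hb.smul_right, hb.smul_right, hb.smul_left, hWe w hw, hWf w hw] at hQu
      rw [← hQu]; ring
    have hxy' : x = 0 ∨ y = 0 := by
      rcases mul_eq_zero.1 hxy with h | h
      · exact mul_eq_zero.1 h
      · exact absurd h hpf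
    rcases hxy' with hx0 | hy0
    · right
      subst hx0
      rw [zero_smul, add_zero] at hu
      have hy0 : y ≠ 0 := by
        rintro rfl
        apply huW
        rw [← hu, zero_smul, add_zero]; exact hw
      have hfU' : f ∈ U := by
        have h1 : y • f ∈ U := by
          have := U.sub_mem huU (hWle hw)
          rwa [← hu, add_sub_cancel_left] at this
        have := U.smul_mem y⁻¹ h1
        rwa [smul_smul, inv_mul_cancel₀ hy0, one_smul] at this
      symm
      apply Submodule.eq_of_le_of_finrank_le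
      · exact sup_le hWle ((Submodule.span_singleton_le_iff_mem _ _).2 hfU')
      · have := hU₂.2
        omega
    · left
      subst hy0
      rw [zero_smul, add_zero] at hu
      have hx0 : x ≠ 0 := by
        rintro rfl
        apply huW
        rw [← hu, zero_smul, add_zero]; exact hw
      have heU' : e ∈ U := by
        have h1 : x • e ∈ U := by
          have := U.sub_mem huU (hWle hw)
          rwa [← hu, add_sub_cancel_left] at this
        have := U.smul_mem x⁻¹ h1
        rwa [smul_smul, inv_mul_cancel₀ hx0, one_smul] at this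
      symm
      apply Submodule.eq_of_le_of_finrank_le
      · rw [← hU₁eq]
        exact sup_le hWle ((Submodule.span_singleton_le_iff_mem _ _).2 heU')
      · omega

end Cfsg.Agent.Lib.Helper41.OE
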