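import Cfsg.Agent.Lib.Helper57.OE.Base
import Cfsg.Agent.Lib.Helper57.OE.Defs2
import Cfsg.Agent.Lib.Helper37.OE.P6a

set_option autoImplicit false

/-! toolkit for Lagrangians (maximal totally singular subspaces of half dimension) -/

namespace Cfsg.Agent.Lib.Helper41.OE

open Cfsg Cfsg.Geo Matrix Cfsg.Agent.Lib.Helper13.Asch Cfsg.Agent.Lib.Helper90.Sp
  Cfsg.Agent.Lib.Helper57.OE Cfsg.Agent.Lib.Helper37.OE
open scoped Kronecker MatrixGroups

variable {ι : Type} [Fintype ι] [DecidableEq ι] {F : Type*} [Field F] {Q : (ι → F) → F}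

theorem polB_nondeg (hQ : IsNondegenerateQuadraticForm Q) : (polB hQ).Nondegenerate := by
  constructor
  · intro v hv
    by_contra h0
    obtain ⟨-, ⟨x, hx⟩⟩ := hQ.nondegenerate v h0
    exact hx (hv x)
  · intro v hv
    by_contra h0
    obtain ⟨⟨x, hx⟩, -⟩ := hQ.nondegenerate v h0
    exact hx (hv x)

omit [Fintype ι] [DecidableEq ι] in
theorem Q_add (u v : ι → F) : Q (u + v) = Q u + Q v + QuadraticMap.polar Q u v := by
  unfold QuadraticMap.polar
  ring

omit [Fintype ι] [DecidableEq ι] in
theorem polar_eq_zero_of_ts {U : Submodule F (ι → F)} (hU : IsTotallySingularQuad Q U)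
    {u v : ι → F} (hu : u ∈ U) (hv : v ∈ U) : QuadraticMap.polar Q u v = 0 := by
  unfold QuadraticMap.polar
  rw [hU _ (U.add_mem hu hv), hU _ hu, hU _ hv]
  ring

theorem ts_le_orth (hQ : IsNondegenerateQuadraticForm Q) {W U : Submodule F (ι → F)}
    (hU : IsTotallySingularQuad Q U) (hWU : W ≤ U) : U ≤ (polB hQ).orthogonal W := by
  intro u hu w hw
  exact polar_eq_zero_of_ts hU (hWU hw) hu

theorem finrank_orth (hQ : IsNondegenerateQuadraticForm Q) (W : Submodule F (ι → F)) :
    Module.finrank F ((polB hQ).orthogonal W) + Module.finrank F W = Fintype.card ι := by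
  have h := LinearMap.BilinForm.finrank_orthogonal (polB_nondeg hQ) W
  have h2 := Submodule.finrank_le W
  rw [Module.finrank_fintype_fun_eq_card] at h h2
  omega

theorem lagr_orth (hQ : IsNondegenerateQuadraticForm Q) {U : Submodule F (ι → F)}
    (hU : IsLagr Q U) : (polB hQ).orthogonal U = U := by
  have h1 := ts_le_orth hQ hU.1 le_rfl
  have h2 := finrank_orth hQ U
  have h3 := hU.2
  exact (Submodule.eq_of_le_of_finrank_le h1 (by omega)).symm

/-- a subspace and a vector outside it -/
theorem finrank_sup_span {V : Type*} [AddCommGroup V] [Module F V] [FiniteDimensional F V]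
    (W : Submodule F V) {f : V} (hf : f ∉ W) :
    Module.finrank F (W ⊔ Submodule.span F {f} : Submodule F V) = Module.finrank F W + 1 := by
  have hf0 : f ≠ 0 := by
    rintro rfl
    exact hf W.zero_mem
  have hdisj : W ⊓ Submodule.span F {f} = ⊥ := by
    rw [eq_bot_iff]
    rintro x ⟨hxW, hxf⟩
    obtain ⟨c, rfl⟩ := Submodule.mem_span_singleton.1 hxf
    by_cases hc : c = 0
    · simp [hc]
    · exfalso
      apply hf
      have := W.smul_mem c⁻¹ hxW
      rwa [smul_smul, inv_mul_cancel₀ hc, one_smul] at this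
  have h := Submodule.finrank_sup_add_finrank_inf_eq W (Submodule.span F {f})
  rw [hdisj, finrank_bot, add_zero, finrank_span_singleton hf0] at h
  exact h

theorem exists_not_mem_of_finrank_lt {V : Type*} [AddCommGroup V] [Module F V]
    [FiniteDimensional F V] {W U : Submodule F V}
    (h : Module.finrank F W < Module.finrank F U) : ∃ x ∈ U, x ∉ W := by
  by_contra hcon
  push Not at hcon
  have hle : U ≤ W := hcon
  have := Submodule.finrank_mono hle
  omega

end Cfsg.Agent.Lib.Helper41.OE
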